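import Cfsg.Agent.H544.L34.DBlk
import Cfsg.Agent.H736.L34.Nil3
import Cfsg.Agent.H929.L34.NotFree

/-!
# S5917, type D: the nilpotent vectors fixed by `R` are traces (helper544)

* `DFr` : the frame; `psi` : helper633's bridge on `LK`;
* `tr_nil` (N1) : traces act nilpotently on the three 8-dimensional modules;
* `dnil` (N2) : a vector fixed by `E`, `i`, `j` acting nilpotently on the modules is a trace;
* `dnil_sq` : the same with `sq x = 0`.
-/

set_option autoImplicit false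
set_option maxRecDepth 100000

namespace Cfsg.Agent.H544.L34

open Module
open Cfsg Cfsg.Lie Cfsg.Lie.ChevalleyDatum
open Cfsg.Agent.ChevalleyStructure Cfsg.Agent.ChevalleyStructure.LieAbs
open Cfsg.Agent.ChevalleyStructure.Columns (car cor)
open Cfsg.Agent.ChevalleyStructure.RootVec (rt)
open Cfsg.Agent.H939.L64 Cfsg.Agent.H413.L16 Cfsg.Agent.H201.L34 Cfsg.Agent.H251.L34
open Cfsg.Agent.H942.DF
open Cfsg.Agent.H876.L64
open Cfsg.Agent.H400.L34 (ix Z00 expand0 br_mt z00_iff rtb_ne faith)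
open Cfsg.Agent.H413.L64 (charKK)
open Cfsg.Agent.H940.L34 (Q8 trQ)
open Cfsg.Agent.H633.L34.Psi (Blk Act Fam)

/-- the frame of `E Q8` -/
structure DFr (t1 t2 : ↥(chevE8.group KK)) (ζ : KK) (i j : ↥(chevE8.group KK)) : Prop where
  ef : EF t1 t2 ζ
  i1 : i * t1 * i⁻¹ = t2
  i2 : i * t2 * i⁻¹ = t1⁻¹
  j1 : j * t1 * j⁻¹ = t1 * t2
  j2 : j * t2 * j⁻¹ = t1 * t2⁻¹
  i4 : i ^ 4 = 1
  jj : j * j = i * i
  ij : i * j * i⁻¹ = j⁻¹

variable {t1 t2 : ↥(chevE8.group KK)} {ζ : KK} {i j : ↥(chevE8.group KK)}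

theorem DFr.j4 (f : DFr t1 t2 ζ i j) : j ^ 4 = 1 := by
  have h1 : j ^ 4 = j * j * (j * j) := by simp only [pow_succ, pow_zero, one_mul, mul_assoc]
  have h2 : i ^ 4 = i * i * (i * i) := by simp only [pow_succ, pow_zero, one_mul, mul_assoc]
  rw [h1, f.jj, ← h2, f.i4]

theorem DFr.ji (f : DFr t1 t2 ζ i j) : j * i = i * (i * (i * j)) := by
  have h2 : i * i * (i * i) = 1 := by rw [← f.i4]; simp only [pow_succ, pow_zero, one_mul, mul_assoc]
  have h1 : j⁻¹ = i * i * j := by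
    refine (eq_inv_of_mul_eq_one_left ?_).symm
    rw [mul_assoc, f.jj, h2]
  have h3 : i * j⁻¹ * i⁻¹ = j := by
    have := congrArg (fun y => y⁻¹) f.ij
    simpa only [mul_inv_rev, inv_inv, mul_assoc] using this
  have h4 : j * i = i * j⁻¹ := by
    conv_lhs => rw [← h3]
    rw [inv_mul_cancel_right]
  rw [h4, h1]
  simp only [mul_assoc]

theorem DFr.a4 (f : DFr t1 t2 ζ i j) (x : LK) : aK i (aK i (aK i (aK i x))) = x := by
  rw [← aK_mul', ← aK_mul', ← aK_mul']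
  have : i * i * i * i = 1 := by rw [← f.i4]; simp only [pow_succ, pow_zero, one_mul]
  rw [this, aK_one']

theorem DFr.ajj (f : DFr t1 t2 ζ i j) (x : LK) : aK j (aK j x) = aK i (aK i x) := by
  rw [← aK_mul', ← aK_mul', f.jj]

theorem DFr.aji (f : DFr t1 t2 ζ i j) (x : LK) : aK j (aK i x) = aK i (aK i (aK i (aK j x))) := by
  rw [← aK_mul', ← aK_mul', ← aK_mul', ← aK_mul', f.ji]
  simp only [mul_assoc]

/-- the trace over `⟨i, j⟩` -/
noncomputable def trl (i j : ↥(chevE8.group KK)) : LK →ₗ[KK] LK where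
  toFun := Cfsg.Agent.H633.L34.Psi.TrL (aK i) (aK j)
  map_add' x y := by
    unfold Cfsg.Agent.H633.L34.Psi.TrL
    simp only [aK_add]
    abel
  map_smul' c x := by
    unfold Cfsg.Agent.H633.L34.Psi.TrL
    simp only [aK_smul, smul_add, RingHom.id_apply]

theorem trl_apply (x : LK) : trl i j x = x + aK i (aK i x) + (aK i x + aK i (aK i (aK i x))) +
    (aK j x + aK i (aK i (aK j x))) + (aK i (aK j x) + aK i (aK i (aK i (aK j x)))) := rfl

theorem trl_TrL (x : LK) : trl i j x = Cfsg.Agent.H633.L34.Psi.TrL (aK i) (aK j) x := rfl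

theorem DFr.fi (f : DFr t1 t2 ζ i j) (x : LK) : aK i (trl i j x) = trl i j x := by
  rw [trl_apply]
  simp only [aK_add, f.a4]
  abel

theorem DFr.fj (f : DFr t1 t2 ζ i j) (x : LK) : aK j (trl i j x) = trl i j x := by
  rw [trl_apply]
  simp only [aK_add, f.aji, f.ajj, f.a4]
  abel

theorem DFr.m0i (f : DFr t1 t2 ζ i j) {x : LK} (hx : x ∈ M0 t1 t2) : aK i x ∈ M0 t1 t2 :=
  mem_M0'.2 ((f.ef.NG_i f.i1 f.i2).m x (mem_M0'.1 hx))

theorem DFr.m0j (f : DFr t1 t2 ζ i j) {x : LK} (hx : x ∈ M0 t1 t2) : aK j x ∈ M0 t1 t2 :=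
  mem_M0'.2 ((f.ef.NG_j f.j1 f.j2).m x (mem_M0'.1 hx))

theorem DFr.tr_le (f : DFr t1 t2 ζ i j) : (M0 t1 t2).map (trl i j) ≤ M0 t1 t2 := by
  rintro _ ⟨x, hx, rfl⟩
  rw [trl_apply]
  have m := @DFr.m0i _ _ _ _ _ f
  have mj := @DFr.m0j _ _ _ _ _ f
  exact add_mem (add_mem (add_mem (add_mem hx (m (m hx))) (add_mem (m hx) (m (m (m hx)))))
    (add_mem (mj hx) (m (m (mj hx))))) (add_mem (m (mj hx)) (m (m (m (mj hx)))))

theorem fr8 : finrank KK (Fin 8 → KK) = 8 := Module.finrank_fin_fun KK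

/-- **helper633's bridge on `LK`** -/
theorem DFr.psi (f : DFr t1 t2 ζ i j) (X : Fin 3) : ∃ pi pj : (Fin 8 → KK) →ₗ[KK] (Fin 8 → KK),
    Q8 pi pj (pi ∘ₗ pi) ∧ (∀ v, qf (pi v) = qf v) ∧ (∀ v, qf (pj v) = qf v) ∧
      Fam (M0 t1 t2) (AA X 0) (la X) (aK i) nui pi ∧ Fam (M0 t1 t2) (AA X 0) (la X) (aK j) nuj pj ∧
      (∀ x ∈ M0 t1 t2, ∀ w, la X w (aK i (aK i x)) = la X w x) ∧
      (∀ x ∈ M0 t1 t2, AA X 0 (trl i j x) = trQ pi pj (pi ∘ₗ pi) (AA X 0 x)) ∧
      ∀ x ∈ M0 t1 t2, IsNilpotent (AA X 0 (trl i j x)) := by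
  have hch : CharP KK 2 := charKK
  exact Cfsg.Agent.H633.L34.Psi.main' fr8 (fun a => by
      obtain ⟨r, hr⟩ := IsAlgClosed.exists_pow_nat_eq a (show 0 < 2 by norm_num)
      exact ⟨r, by rw [← pow_two, hr]⟩) (blk f.ef X)
    (act f.ef (f.ef.NG_i f.i1 f.i2) OR_i f.i4 X) (act f.ef (f.ef.NG_j f.j1 f.j2) OR_j f.j4 X)
    (fun x _ => f.a4 x) (fun x _ => f.ajj x) (fun x _ => f.aji x) nui_nui nuj_nuj

theorem la_add (X : Fin 3) (w : Fin 8) (x y : LK) : la X w (x + y) = la X w x + la X w y := by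
  rw [la_phi, la_phi, la_phi, map_add]

/-- traces have no scalar parts -/
theorem DFr.la_tr (f : DFr t1 t2 ζ i j) (X : Fin 3) (w : Fin 8) {x : LK} (hx : x ∈ M0 t1 t2) : la X w (trl i j x) = 0 := by
  obtain ⟨-, -, -, -, -, -, -, h, -, -⟩ := f.psi X
  have hch : CharP KK 2 := charKK
  have k : ∀ y ∈ M0 t1 t2, la X w (y + aK i (aK i y)) = 0 := fun y hy => by
    rw [la_add, h y hy, CharTwo.add_self_eq_zero]
  rw [trl_apply, la_add, la_add, la_add, k _ hx, k _ (f.m0i hx), k _ (f.m0j hx), k _ (f.m0i (f.m0j hx))]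
  simp only [add_zero]

/-- **N1** : traces act nilpotently -/
theorem DFr.tr_nil (f : DFr t1 t2 ζ i j) (X : Fin 3) (w : Fin 8) {k : LK} (hk : k ∈ (M0 t1 t2).map (trl i j)) :
    IsNilpotent (AA X w k) := by
  have h0 := M0_Z00 f.ef (f.tr_le hk)
  obtain ⟨x, hx, rfl⟩ := hk
  obtain ⟨-, -, -, -, -, -, -, -, -, h⟩ := f.psi X
  rw [AA_eq h0, f.la_tr X w hx, zero_smul, add_zero]
  exact h x hx

/-- separation -/
theorem sep (h : EF t1 t2 ζ) {x : LK} (hx : x ∈ M0 t1 t2) (h0 : ∀ X w, AA X w x = 0) : x = 0 := by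
  refine faith (M0_Z00 h hx) fun X w k => ?_
  rw [← io_single, br_io (M0_Z00 h hx), h0, LinearMap.zero_apply, map_zero]

theorem rtb_ex' : ∀ (X : Fin 3) (b : Fin 24), ∃ k k' : Fin 8, rtb X b k = (k' : ℕ) ∧ ∀ b', rtb X b' k = (k' : ℕ) → b' = b := by
  decide +kernel

theorem car_rtb : ∀ (X : Fin 3) (b : Fin 24) (k i : Fin 8) (h : rtb X b k < 8), car chevE8 i (mt X 0 ⟨rtb X b k, h⟩) =
    car chevE8 i (mt X 0 k) + car chevE8 i (dr b) := by decide +kernel

/-- the kernel of one representation is scalar in the others -/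
theorem ker_scalar (h : EF t1 t2 ζ) {x : LK} (hx : x ∈ M0 t1 t2) {X : Fin 3} (h0 : AA X 0 x = 0) (Y : Fin 3) (w : Fin 8) :
    ∃ l : KK, AA Y w x = l • (1 : Module.End KK (Fin 8 → KK)) := by
  have hZ := M0_Z00 h hx
  -- the root part vanishes
  have h1 : ∀ b : Fin 24, x (ix (dr_lt b)) = 0 := by
    intro b
    obtain ⟨k, k', hk, hu⟩ := rtb_ex' X b
    have e := congrFun (LinearMap.congr_fun h0 (Pi.single k 1)) k'
    rw [AA_single hZ, Pi.add_apply, Pi.smul_apply, Finset.sum_apply, LinearMap.zero_apply, Pi.zero_apply,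
      Finset.sum_eq_single b] at e
    · have hlt : rtb X b k < 8 := by rw [hk]; exact k'.2
      have hkk : k' ≠ k := by
        rintro rfl
        exact rtb_ne X b _ hk
      have hm : (⟨rtb X b k, hlt⟩ : Fin 8) = k' := Fin.ext hk
      rw [dif_pos hlt, Pi.single_eq_of_ne hkk, smul_zero, zero_add, Pi.smul_apply, hm, Pi.single_eq_same, smul_eq_mul,
        mul_one] at e
      exact e
    · intro b' _ hb'
      rw [Pi.smul_apply]
      split_ifs with hlt
      · rw [Pi.single_eq_of_ne, smul_zero]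
        intro he
        exact hb' (hu b' (congrArg Fin.val he).symm)
      · rw [Pi.zero_apply, smul_zero]
    · intro h; exact absurd (Finset.mem_univ _) h
  have h2 : ∀ (Z : Fin 3) (w k : Fin 8), AA Z w x (Pi.single k 1) = dg x Z w k • Pi.single k 1 := by
    intro Z w k
    rw [AA_single hZ, Finset.sum_eq_zero, add_zero]
    intro b _
    rw [h1, zero_smul]
  -- the diagonal
  let cb : Fin 24 → KK := fun b => phi (fun i => car chevE8 i (dr b)) x
  have h3 : ∀ (Z : Fin 3) (b : Fin 24) (k : Fin 8) (hlt : rtb Z b k < 8), dg x Z 0 ⟨rtb Z b k, hlt⟩ = dg x Z 0 k + cb b := by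
    intro Z b k hlt
    show dg x Z 0 _ = dg x Z 0 k + phi (fun i => car chevE8 i (dr b)) x
    rw [dg_phi, dg_phi, phi_apply, phi_apply, phi_apply, ← Finset.sum_add_distrib]
    refine Finset.sum_congr rfl fun i _ => ?_
    have e := congrArg (fun a : ℤ => (a : KK)) (car_rtb Z b k i hlt)
    push_cast at e
    rw [← mul_add]
    exact congrArg _ e
  have h4 : ∀ k, dg x X 0 k = 0 := by
    intro k
    have e := h2 X 0 k
    rw [h0, LinearMap.zero_apply] at e
    have e2 := congrFun e k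
    rw [Pi.zero_apply, Pi.smul_apply, Pi.single_eq_same, smul_eq_mul, mul_one] at e2
    exact e2.symm
  have h5 : ∀ b, cb b = 0 := by
    intro b
    obtain ⟨k, k', hk, -⟩ := rtb_ex' X b
    have hlt : rtb X b k < 8 := by rw [hk]; exact k'.2
    have e := h3 X b k hlt
    rw [h4, h4, zero_add] at e
    exact e.symm
  have h6 : ∀ k, dg x Y 0 k = dg x Y 0 0 := by
    have h7 : ∀ (b : Fin 24) (k m : Fin 8), rtb Y b k = m → dg x Y 0 m = dg x Y 0 k := by
      intro b k m hm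
      have hlt : rtb Y b k < 8 := by rw [hm]; exact m.2
      have e := h3 Y b k hlt
      rw [h5, add_zero] at e
      rw [← e]
      congr 1
      exact Fin.ext hm.symm
    intro k
    obtain ⟨m, hm, hk⟩ := Cfsg.Agent.H643.L34.rtb_conn Y k
    have a1 : dg x Y 0 m = dg x Y 0 0 := by
      rcases hm with rfl | ⟨b, hb⟩
      · rfl
      · exact h7 b 0 m hb
    rcases hk with rfl | ⟨b, hb⟩
    · exact a1
    · rw [← a1]
      exact h7 b m k hb
  refine ⟨dg x Y 0 0 + la Y w x, ?_⟩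
  refine (Pi.basisFun KK (Fin 8)).ext fun k => ?_
  rw [Pi.basisFun_apply, LinearMap.smul_apply, Module.End.one_apply, h2, dg_diff x Y w k, h6]

/-- an element of the kernel of one representation which is nilpotent in all of them is zero -/
theorem ker_zero (h : EF t1 t2 ζ) {x : LK} (hx : x ∈ M0 t1 t2) {X : Fin 3} (h0 : AA X 0 x = 0)
    (hn : ∀ Y w, IsNilpotent (AA Y w x)) : x = 0 := by
  refine sep h hx fun Y w => ?_
  obtain ⟨l, hl⟩ := ker_scalar h hx h0 Y w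
  have h2 := hn Y w
  rw [hl, ← zero_add (l • (1 : Module.End KK (Fin 8 → KK)))] at h2
  rw [hl, Cfsg.Agent.H736.L34.scal_zero (K := KK) IsNilpotent.zero h2, zero_smul]

/-- **`z` is free on the three modules** -/
theorem DFr.free (f : DFr t1 t2 ζ i j) (h3 : 3 ≤ finrank KK ((M0 t1 t2).map (trl i j))) (X : Fin 3)
    {pi pj : (Fin 8 → KK) →ₗ[KK] (Fin 8 → KK)} (hQ : Q8 pi pj (pi ∘ₗ pi)) (qi : ∀ v, qf (pi v) = qf v)
    (qj : ∀ v, qf (pj v) = qf v) (ht : ∀ x ∈ M0 t1 t2, AA X 0 (trl i j x) = trQ pi pj (pi ∘ₗ pi) (AA X 0 x)) :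
    finrank KK (LinearMap.range (pi ∘ₗ pi + 1 : (Fin 8 → KK) →ₗ[KK] (Fin 8 → KK))) = 4 := by
  have hch : CharP KK 2 := charKK
  have hq : Cfsg.Agent.H929.L34.Quat (K := KK) pi pj (pi ∘ₗ pi) :=
    ⟨hQ.ii, hQ.jj, fun x => by rw [hQ.ji, hQ.zz], hQ.zz⟩
  have h1 := hq.rank_four_of_tr (q := qf) fr8 (fun x hx => bf_nd x fun w => by
    rw [bf_comm, ← polar_qf]; exact hx w) qi qj ((M0 t1 t2).map (AA X 0)) (by
      rintro _ ⟨x, hx, rfl⟩
      exact ⟨dg x X 0 0 + dg x X 0 7, fun u => by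
        rw [polar_qf]
        exact AA_sim' (M0_Z00 f.ef hx) X 0 u⟩) ?_
  · rw [add_comm]; exact h1
  · let g : ↥((M0 t1 t2).map (trl i j)) →ₗ[KK] Module.End KK (Fin 8 → KK) := (AA X 0).domRestrict _
    have hinj : Function.Injective g := by
      rw [← LinearMap.ker_eq_bot, LinearMap.ker_eq_bot']
      rintro ⟨k, hk⟩ hk0
      exact Subtype.ext (ker_zero f.ef (f.tr_le hk) (X := X) hk0 fun Y w => f.tr_nil Y w hk)
    have hr := LinearMap.finrank_range_of_inj hinj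
    refine h3.trans (hr.symm.le.trans (Submodule.finrank_mono ?_))
    rintro _ ⟨⟨_, x, hx, rfl⟩, rfl⟩
    refine ⟨AA X 0 x, ⟨x, hx, rfl⟩, ?_⟩
    show _ = AA X 0 (trl i j x)
    rw [ht x hx, hq.tr_apply]
    rfl

/-- a nilpotent map normalised by `psi` up to a scalar commutes with it -/
theorem comm_nil {A psi : Module.End KK (Fin 8 → KK)} (hA : IsNilpotent A) (hp : Function.Injective psi) {s : KK}
    (h : ∀ v, A (psi v) = psi (A v) + s • psi v) : s = 0 := by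
  obtain ⟨n, hn⟩ := hA
  have h1 : ∀ (m : ℕ) (v : Fin 8 → KK), (A ^ m) (psi v) = psi (((A + s • (1 : Module.End KK (Fin 8 → KK))) ^ m) v) := by
    intro m
    induction m with
    | zero => intro v; rfl
    | succ m ih =>
      intro v
      rw [pow_succ, Module.End.mul_apply, h, ← map_smul, ← map_add, ih, pow_succ, Module.End.mul_apply]
      rfl
  have h2 : (A + s • (1 : Module.End KK (Fin 8 → KK))) ^ n = 0 := by
    refine LinearMap.ext fun v => ?_
    apply hp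
    rw [← h1, hn, LinearMap.zero_apply, LinearMap.zero_apply, map_zero]
  exact Cfsg.Agent.H736.L34.scal_zero (K := KK) ⟨n, hn⟩ ⟨n, h2⟩

/-- **N2** -/
theorem DFr.dnil (f : DFr t1 t2 ζ i j) (h3 : 3 ≤ finrank KK ((M0 t1 t2).map (trl i j))) {x : LK} (hx : x ∈ M0 t1 t2)
    (hi : aK i x = x) (hj : aK j x = x) (hn : ∀ X w, IsNilpotent (AA X w x)) : x ∈ (M0 t1 t2).map (trl i j) := by
  have hch : CharP KK 2 := charKK
  obtain ⟨pi, pj, hQ, qi, qj, Fi, Fj, -, ht, -⟩ := f.psi 0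
  have hf := f.free h3 0 hQ qi qj ht
  have ip : Function.Injective pi := fun u v huv => by
    have := congrArg (fun y => pi (pi (pi y))) huv
    have e := hQ.zz
    simp only [LinearMap.comp_apply] at e
    simpa only [e] using this
  have jp : Function.Injective pj := fun u v huv => by
    have := congrArg (fun y => pj (pj (pj y))) huv
    have e : ∀ v, pj (pj (pj (pj v))) = v := fun v => by rw [hQ.jj, hQ.jj, hQ.zz]
    simpa only [e] using this
  refine Cfsg.Agent.H736.L34.dnil0 (q := fun v => qf v) (b := bf) hQ qf_add qi qj bf_nd fr8 hf (ι := Fin 3 × Fin 8)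
    (M0 t1 t2) ((M0 t1 t2).map (trl i j)) (fun p x => AA p.1 p.2 x) (fun p x _ y _ => map_add _ _ _)
    (fun p c x _ => map_smul _ _ _) (0, 0) f.tr_le h3 (fun p k hk => f.tr_nil p.1 p.2 hk)
    (fun y => aK i y = y ∧ aK j y = y) ?_ ?_ ?_ ?_ ?_ ?_ hx ⟨hi, hj⟩ fun p => hn p.1 p.2
  · rintro _ ⟨y, -, rfl⟩
    exact ⟨f.fi y, f.fj y⟩
  · intro y hy hfy hny v
    have e := Fi 0 y hy
    rw [hfy.1] at e
    have hs := comm_nil (hny (0, 0)) ip e
    have e2 := e v
    rw [hs, zero_smul, add_zero] at e2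
    exact e2
  · intro y hy hfy hny v
    have e := Fj 0 y hy
    rw [hfy.2] at e
    have hs := comm_nil (hny (0, 0)) jp e
    have e2 := e v
    rw [hs, zero_smul, add_zero] at e2
    exact e2
  · intro y hy
    exact AA_sim (M0_Z00 f.ef hy) 0 0
  · intro y hy h0 p
    exact ker_scalar f.ef hy (X := 0) h0 p.1 p.2
  · intro y hy h0
    exact sep f.ef hy fun X w => h0 (X, w)

/-- square-zero elements act nilpotently -/
theorem AA_sq {x : LK} (hZ : Z00 x) (h0 : Cfsg.Agent.H201.L34.sq x = 0) (X : Fin 3) (w : Fin 8) : IsNilpotent (AA X w x) := by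
  refine ⟨2, ?_⟩
  rw [pow_two]
  refine LinearMap.ext fun v => ?_
  apply io_inj X w
  rw [Module.End.mul_apply, ← br_io hZ, ← br_io hZ, ← br_sq, h0, br_zero_l, LinearMap.zero_apply, map_zero]

/-- **DNIL** -/
theorem DFr.dnil_sq (f : DFr t1 t2 ζ i j) (h3 : 3 ≤ finrank KK ((M0 t1 t2).map (trl i j))) {x : LK}
    (h1 : aK t1 x = x) (h2 : aK t2 x = x) (hi : aK i x = x) (hj : aK j x = x) (h0 : Cfsg.Agent.H201.L34.sq x = 0) :
    ∃ u, aK t1 u = u ∧ aK t2 u = u ∧ trl i j u = x := by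
  obtain ⟨u, hu, e⟩ := f.dnil h3 (x := x) ⟨h1, h2⟩ hi hj (AA_sq (M0_Z00 f.ef ⟨h1, h2⟩) h0)
  exact ⟨u, hu.1, hu.2, e⟩

end Cfsg.Agent.H544.L34
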