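import Cfsg.Agent.H544.L34.DRep
import Cfsg.Agent.H633.L34.Psi

/-!
# S5917, type D: the data `Blk`, `Act` of helper633's bridge (helper544)
-/

set_option autoImplicit false
set_option maxRecDepth 100000

namespace Cfsg.Agent.H544.L34

open Cfsg Cfsg.Lie Cfsg.Lie.ChevalleyDatum
open Cfsg.Agent.ChevalleyStructure Cfsg.Agent.ChevalleyStructure.LieAbs
open Cfsg.Agent.ChevalleyStructure.Columns (car cor)
open Cfsg.Agent.ChevalleyStructure.RootVec (rt)
open Cfsg.Agent.H939.L64 Cfsg.Agent.H413.L16 Cfsg.Agent.H201.L34 Cfsg.Agent.H251.L34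
open Cfsg.Agent.H942.DF
open Cfsg.Agent.H876.L64
open Cfsg.Agent.H400.L34 (ix Z00 expand0 br_mt z00_iff rtb_ne faith)
open Cfsg.Agent.H413.L64 (charKK)
open Cfsg.Agent.H633.L34.Psi (Blk Act)

variable {t1 t2 : ↥(chevE8.group KK)} {ζ : KK}

/-- the fixed algebra of `E` -/
noncomputable def M0 (t1 t2 : ↥(chevE8.group KK)) : Submodule KK LK where
  carrier := {x | aK t1 x = x ∧ aK t2 x = x}
  add_mem' := fun {a b} ha hb => ⟨by rw [aK_add, ha.1, hb.1], by rw [aK_add, ha.2, hb.2]⟩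
  zero_mem' := ⟨aK_zero t1, aK_zero t2⟩
  smul_mem' := fun c x hx => ⟨by rw [aK_smul, hx.1], by rw [aK_smul, hx.2]⟩

theorem mem_M0 {x : LK} : x ∈ M0 t1 t2 ↔ aK t1 x = x ∧ aK t2 x = x := Iff.rfl

theorem mem_M0' {x : LK} : x ∈ M0 t1 t2 ↔ VV t1 t2 ζ 0 0 x := VV00.symm

theorem M0_Z00 (h : EF t1 t2 ζ) {x : LK} (hx : x ∈ M0 t1 t2) : Z00 x :=
  (z00_iff h.h1 h.h2 h.hζ h.v1 h.v2 x).1 hx

theorem Mp_le_M0 : Mp t1 t2 ζ ≤ M0 t1 t2 := by
  refine Submodule.span_le.2 ?_
  rintro _ ⟨a, b, ha, hb, rfl⟩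
  rw [VV00] at ha hb
  exact ⟨by rw [aK_brK, ha.1, hb.1], by rw [aK_brK, ha.2, hb.2]⟩

/-- the linear form with the coefficients `n` -/
noncomputable def phi (n : Fin 8 → ℤ) : LK →ₗ[KK] KK where
  toFun x := ∑ i : Fin 8, x (Sum.inl (show Fin chevE8.rank from i)) * ((n i : ℤ) : KK)
  map_add' x y := by
    rw [← Finset.sum_add_distrib]
    exact Finset.sum_congr rfl fun i _ => add_mul _ _ _
  map_smul' c x := by
    rw [RingHom.id_apply, smul_eq_mul, Finset.mul_sum]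
    exact Finset.sum_congr rfl fun i _ => mul_assoc _ _ _

theorem phi_apply (n : Fin 8 → ℤ) (x : LK) :
    phi n x = ∑ i : Fin 8, x (Sum.inl (show Fin chevE8.rank from i)) * ((n i : ℤ) : KK) := rfl

theorem phi_er (n : Fin 8 → ℤ) (s : ℕ) : phi n (er s) = 0 := by
  rw [phi_apply]
  refine Finset.sum_eq_zero fun i _ => ?_
  rw [er_inl, zero_mul]

theorem phi_hr (n : Fin 8 → ℤ) (s : ℕ) (hn : (∑ m : Fin 8, cor chevE8 s m * n m) % 2 = 0) : phi n (hr s) = 0 := by
  rw [phi_apply]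
  have h1 := cast_even hn
  push_cast at h1
  rw [← h1]
  exact Finset.sum_congr rfl fun i _ => rfl

/-- linear forms vanishing on the derived algebra -/
theorem phi_Mp (h : EF t1 t2 ζ) (n : Fin 8 → ℤ) (hn : ∀ b : Fin 24, (∑ m : Fin 8, cor chevE8 (dr b) m * n m) % 2 = 0)
    {x : LK} (hx : x ∈ Mp t1 t2 ζ) : phi n x = 0 := by
  have key : ∀ x ∈ G0, ∀ y ∈ G0, brM x y ∈ LinearMap.ker (phi n) := by
    rintro x (⟨c, rfl⟩ | ⟨b, rfl⟩) y (⟨c', rfl⟩ | ⟨b', rfl⟩)
    · show brK _ _ ∈ _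
      rw [br_hh]; exact zero_mem _
    · show brK _ _ ∈ _
      rw [br_hv _ (dr_lt b')]
      exact Submodule.smul_mem _ _ (phi_er n _)
    · show brK _ _ ∈ _
      rw [br_comm, br_hv _ (dr_lt b)]
      exact Submodule.smul_mem _ _ (phi_er n _)
    · show brK _ _ ∈ _
      by_cases hb : dr b' = 239 - dr b
      · rw [hb, br_neg (dr_lt b)]
        exact phi_hr n _ (hn b)
      · rw [br_rr (dr_lt b) (dr_lt b') hb]
        exact phi_er n _
  have hle : Mp t1 t2 ζ ≤ LinearMap.ker (phi n) := by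
    refine Submodule.span_le.2 ?_
    rintro _ ⟨a, b, ha, hb, rfl⟩
    exact LinearMap.BilinMap.apply_apply_mem_of_mem_span (LinearMap.ker (phi n)) G0 G0 brM key a b (h.mem_span ha)
      (h.mem_span hb)
  exact hle hx

theorem phi_hv (n : Fin 8 → ℤ) (m : Fin 8) : ∃ c : Fin chevE8.rank → KK, phi n (hv c) = ((n m : ℤ) : KK) := by
  let c : Fin 8 → KK := Pi.single m 1
  refine ⟨c, ?_⟩
  have e : phi n (hv c) = ∑ i : Fin 8, c i * ((n i : ℤ) : KK) := rfl
  rw [e, Finset.sum_eq_single m]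
  · show Pi.single (M := fun _ : Fin 8 => KK) m 1 m * _ = _
    rw [Pi.single_eq_same, one_mul]
  · intro b _ hb
    show Pi.single (M := fun _ : Fin 8 => KK) m 1 b * _ = _
    rw [Pi.single_eq_of_ne hb, zero_mul]
  · intro h; exact absurd (Finset.mem_univ _) h

theorem dg_phi (x : LK) (X : Fin 3) (w k : Fin 8) : dg x X w k = phi (fun i => car chevE8 i (mt X w k)) x := rfl

theorem la_phi (X : Fin 3) (w : Fin 8) (x : LK) :
    la X w x = phi (fun i => car chevE8 i (mt X w 0) - car chevE8 i (mt X 0 0)) x := by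
  unfold la
  rw [dg_phi, dg_phi, phi_apply, phi_apply, phi_apply, ← Finset.sum_sub_distrib]
  refine Finset.sum_congr rfl fun i _ => ?_
  push_cast
  ring

/-- the multiplier -/
noncomputable def cm (X : Fin 3) (x : LK) : KK := dg x X 0 0 + dg x X 0 7

theorem cm_phi (X : Fin 3) (x : LK) : cm X x = phi (fun i => car chevE8 i (mt X 0 0) + car chevE8 i (mt X 0 7)) x := by
  unfold cm
  rw [dg_phi, dg_phi, phi_apply, phi_apply, phi_apply, ← Finset.sum_add_distrib]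
  refine Finset.sum_congr rfl fun i _ => ?_
  push_cast
  ring

theorem cm_even : ∀ (X : Fin 3) (b : Fin 24),
    (∑ m : Fin 8, cor chevE8 (dr b) m * (car chevE8 m (mt X 0 0) + car chevE8 m (mt X 0 7))) % 2 = 0 := by decide +kernel

theorem la_even : ∀ (X : Fin 3) (w : Fin 8) (b : Fin 24),
    (∑ m : Fin 8, cor chevE8 (dr b) m * (car chevE8 m (mt X w 0) - car chevE8 m (mt X 0 0))) % 2 = 0 := by decide +kernel

theorem cm_odd : ∀ X : Fin 3, ∃ m : Fin 8, (car chevE8 m (mt X 0 0) + car chevE8 m (mt X 0 7)) % 2 ≠ 0 := by decide +kernel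

theorem la_nw : ∀ (X : Fin 3) (w i : Fin 8), ((car chevE8 i (mt X (nw w) 0) - car chevE8 i (mt X 0 0)) -
    (car chevE8 i (mt X w 0) - car chevE8 i (mt X 0 0)) - (car chevE8 i (mt X (nw 0) 0) - car chevE8 i (mt X 0 0))) % 2 = 0 := by
  decide +kernel

/-- the root vectors of `D₄` are in the derived algebra -/
theorem dr_Mp (h : EF t1 t2 ζ) (b : Fin 24) : er (dr b) ∈ Mp t1 t2 ζ := by
  obtain ⟨i, hi⟩ := odd_car ⟨dr b, by rw [nr]; exact dr_lt b⟩
  refine Submodule.subset_span ⟨hv (Pi.single (M := fun _ => KK) i 1), er (dr b), h.hvM _, h.drM b, ?_⟩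
  rw [br_hv _ (dr_lt b), Finset.sum_eq_single i]
  · rw [Pi.single_eq_same, one_mul]
    have := cast_odd hi
    rw [this, one_smul]
  · intro c _ hc
    rw [Pi.single_eq_of_ne hc, zero_mul]
  · intro h; exact absurd (Finset.mem_univ _) h

theorem AA_dr (X : Fin 3) (w : Fin 8) (b : Fin 24) (k : Fin 8) : AA X w (er (dr b)) (Pi.single k 1) =
    if h : rtb X b k < 8 then (Pi.single ⟨rtb X b k, h⟩ 1 : Fin 8 → KK) else 0 := by
  rw [AA_apply, io_single, br_dr_mt]
  split_ifs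
  · rw [pr_er]
  · rw [map_zero]

/-- polarisation of `AA_sim` -/
theorem AA_pol {x : LK} (hx : Z00 x) (X : Fin 3) (v w : Fin 8 → KK) :
    bf (AA X 0 x v) w + bf (AA X 0 x w) v = cm X x * bf v w := by
  have h1 := AA_sim' hx X 0 (v + w)
  rw [qf_add] at h1
  simp only [map_add, LinearMap.add_apply] at h1
  have h2 := AA_sim' hx X 0 v
  have h3 := AA_sim' hx X 0 w
  unfold cm
  linear_combination h1 - h2 - h3

theorem blk (h : EF t1 t2 ζ) (X : Fin 3) :
    Blk (M0 t1 t2) (Mp t1 t2 ζ) (AA X 0) bf (fun v => qf v) (cm X) nw (la X) where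
  DL := Mp_le_M0
  schur := fun T hT => Cfsg.Agent.H643.L34.schur_fun (X := X) (R := fun b => AA X 0 (er (dr b))) (AA_dr X 0) T
    fun b v => hT _ (dr_Mp h b) v
  nd := bf_nd
  inv := fun d hd v w => by
    have h1 := AA_pol (M0_Z00 h (Mp_le_M0 hd)) X v w
    have h2 : cm X d = 0 := by rw [cm_phi]; exact phi_Mp h _ (cm_even X) hd
    have hch : CharP KK 2 := charKK
    rw [h2, zero_mul] at h1
    rw [CharTwo.add_eq_zero.1 h1, bf_comm]
  pol := qf_add
  hc := fun x hx v => AA_sim' (M0_Z00 h hx) X 0 v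
  x0 := by
    obtain ⟨m, hm⟩ := cm_odd X
    obtain ⟨c, hc⟩ := phi_hv (fun i => car chevE8 i (mt X 0 0) + car chevE8 i (mt X 0 7)) m
    refine ⟨hv c, mem_M0'.2 (h.hvM _), ?_⟩
    rw [cm_phi, hc, cast_odd hm]
    exact one_ne_zero
  lamD := fun w d hd => by rw [la_phi]; exact phi_Mp h _ (la_even X w) hd
  lam0 := fun x _ => sub_self _
  lamz := fun w x _ => by
    rw [la_phi, la_phi, la_phi, phi_apply, phi_apply, phi_apply, ← Finset.sum_add_distrib]
    refine Finset.sum_congr rfl fun i _ => ?_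
    have e := cast_even (la_nw X w i)
    push_cast at e ⊢
    linear_combination (x (Sum.inl (show Fin chevE8.rank from i))) * e
  nwnw := nw_nw

/-- the action in coordinates -/
noncomputable def GG (g : ↥(chevE8.group KK)) (ν : Fin 8 → Fin 8) (X : Fin 3) (w : Fin 8) :
    (Fin 8 → KK) →ₗ[KK] (Fin 8 → KK) where
  toFun v := pr X (ν w) (aK g (io X w v))
  map_add' u v := by rw [map_add, aK_add, map_add]
  map_smul' c v := by rw [map_smul, aK_smul, map_smul, RingHom.id_apply]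

theorem GG_apply (g : ↥(chevE8.group KK)) (ν : Fin 8 → Fin 8) (X : Fin 3) (w : Fin 8) (v : Fin 8 → KK) :
    GG g ν X w v = pr X (ν w) (aK g (io X w v)) := rfl

variable {g : ↥(chevE8.group KK)} {ν : Fin 8 → Fin 8}

theorem io_GG (h : EF t1 t2 ζ) (n : NG t1 t2 ζ g ν) (ho : OR ν) (h4 : g ^ 4 = 1) (X : Fin 3) (w : Fin 8)
    (v : Fin 8 → KK) : io X (ν w) (GG g ν X w v) = aK g (io X w v) := by
  rw [GG_apply, io_pr (n.keep h ho h4 (IX_io X w v))]

theorem act (h : EF t1 t2 ζ) (n : NG t1 t2 ζ g ν) (ho : OR ν) (h4 : g ^ 4 = 1) (X : Fin 3) :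
    Act (M0 t1 t2) (Mp t1 t2 ζ) (AA X 0) (la X) (aK g) ν (GG g ν X) where
  m0 := fun x hx => mem_M0'.2 (n.m x (mem_M0'.1 hx))
  mD := fun d hd => n.mp hd
  inj := fun w => by
    rw [← LinearMap.ker_eq_bot, LinearMap.ker_eq_bot']
    intro v hv
    have h1 := io_GG h n ho h4 X w v
    rw [hv, map_zero] at h1
    have h2 := congrArg (aK g⁻¹) h1
    rw [aK_inv_l, aK_zero] at h2
    apply io_inj X w
    rw [map_zero, h2]
  eq := fun w x hx v => by
    have hx' : Z00 x := M0_Z00 h hx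
    have hg' : Z00 (aK g x) := M0_Z00 h (mem_M0'.2 (n.m x (mem_M0'.1 hx)))
    have e1 : AA X 0 (aK g x) (GG g ν X w v) + la X (ν w) (aK g x) • GG g ν X w v = AA X (ν w) (aK g x) (GG g ν X w v) := by
      rw [AA_eq hg' X (ν w)]; rfl
    have e2 : AA X 0 x v + la X w x • v = AA X w x v := by
      rw [AA_eq hx' X w]; rfl
    rw [e1, e2]
    apply io_inj X (ν w)
    rw [← br_io hg', io_GG h n ho h4, io_GG h n ho h4, ← br_io hx', aK_brK]

end Cfsg.Agent.H544.L34
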