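import Mathlib
import Cfsg.Agent.H940.L34.LemH

/-!
# S5917, type D: abstract assembly of `n ∈ V^R`, `n^[2] = 0` ⟹ `n ∈ Tr` (helper544)
-/

set_option autoImplicit false
set_option linter.unusedSectionVars false

namespace Cfsg.Agent.H544.L34

/-- the square-zero vectors of `VR = K3 + Z2` -/
theorem dnil_abs {K L W : Type*} [Field K] [AddCommGroup L] [Module K L] [FiniteDimensional K L]
    [AddCommGroup W] [Module K W] [Nontrivial W] {ι : Type*}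
    (VR K3 Z2 : Submodule K L) (h5 : Module.finrank K VR = 5) (h3 : 3 ≤ Module.finrank K K3)
    (h2 : 2 ≤ Module.finrank K Z2) (hK : K3 ≤ VR) (hZ : Z2 ≤ VR)
    (R : ι → L → Module.End K W) (hn : ∀ X, ∀ k ∈ K3, IsNilpotent (R X k))
    (hs : ∀ X, ∀ t ∈ Z2, ∃ l : K, R X t = l • 1) (hsep : ∀ t ∈ Z2, (∀ X, R X t = 0) → t = 0)
    (sq : L → L) (hsq : ∀ k ∈ K3, ∀ t ∈ Z2, sq (k + t) = sq k + sq t)
    (hsqR : ∀ X, ∀ k ∈ K3, ∀ t ∈ Z2, sq k = t → R X t = R X k * R X k)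
    (hsqZ : ∀ t ∈ Z2, sq t ∈ Z2) (hsq0 : ∀ t ∈ Z2, sq t = 0 → t = 0)
    {x : L} (hx : x ∈ VR) (h0 : sq x = 0) : x ∈ K3 := by
  have scal : ∀ l : K, IsNilpotent (l • (1 : Module.End K W)) → l = 0 := by
    rintro l ⟨n, hn⟩
    rw [smul_pow, one_pow] at hn
    obtain ⟨w, hw⟩ := exists_ne (0 : W)
    have h1 := congrArg (fun f : Module.End K W => f w) hn
    change l ^ n • w = 0 at h1
    rcases smul_eq_zero.1 h1 with h | h
    · exact eq_zero_of_pow_eq_zero h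
    · exact absurd h hw
  have key : ∀ t ∈ Z2, (∀ X, IsNilpotent (R X t)) → t = 0 := by
    intro t ht h
    refine hsep t ht fun X => ?_
    obtain ⟨l, hl⟩ := hs X t ht
    have h1 := h X
    rw [hl] at h1
    rw [hl, scal l h1, zero_smul]
  have hdis : K3 ⊓ Z2 = ⊥ := by
    rw [Submodule.eq_bot_iff]
    rintro t ⟨ht1, ht2⟩
    exact key t ht2 fun X => hn X t ht1
  have hsup : K3 ⊔ Z2 = VR := by
    refine Submodule.eq_of_le_of_finrank_le (sup_le hK hZ) ?_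
    have := Submodule.finrank_sup_add_finrank_inf_eq K3 Z2
    rw [hdis, finrank_bot] at this
    omega
  rw [← hsup] at hx
  obtain ⟨k, hk, t, ht, rfl⟩ := Submodule.mem_sup.1 hx
  have h1 := hsq k hk t ht
  rw [h0] at h1
  have h4 : sq k = -sq t := eq_neg_of_add_eq_zero_left h1.symm
  have h5 : sq t = 0 := by
    have h6 : -sq t ∈ Z2 := Z2.neg_mem (hsqZ t ht)
    have h7 : -sq t = 0 := by
      refine key _ h6 fun X => ?_
      rw [hsqR X k hk _ h6 h4]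
      obtain ⟨n, hn'⟩ := hn X k hk
      refine ⟨n, ?_⟩
      rw [← pow_two, ← pow_mul, mul_comm, pow_mul, hn']
      rcases Nat.eq_zero_or_pos 2 with h | h
      · omega
      · exact zero_pow (by norm_num)
    exact neg_eq_zero.1 h7
  rw [hsq0 t ht h5, add_zero]
  exact hk

open Cfsg.Agent.H940.L34

/-- the trace of `x` over the group `⟨I, J⟩` -/
def TrL {K L : Type*} [Field K] [AddCommGroup L] [Module K L] (I J : L →ₗ[K] L) (x : L) : L :=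
  x + I (I x) + (I x + I (I (I x))) + (J x + J (I (I x))) + (I (J x) + I (J (I (I x))))

/-- the action of a trace on a weight space -/
theorem trace_abs {K L W : Type*} [Field K] [CharP K 2] [AddCommGroup L] [Module K L]
    [AddCommGroup W] [Module K W] {i j z : W →ₗ[K] W} (h : Q8 i j z)
    (I J : L →ₗ[K] L)
    (A : Fin 8 → L → (W →ₗ[K] W)) (L0 : Submodule K L) (hI0 : ∀ x ∈ L0, I x ∈ L0) (hJ0 : ∀ x ∈ L0, J x ∈ L0)
    (hadd : ∀ w, ∀ x ∈ L0, ∀ y ∈ L0, A w (x + y) = A w x + A w y)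
    (νi νj : Equiv.Perm (Fin 8))
    (hAI : ∀ w, ∀ x ∈ L0, A (νi w) (I x) = i ∘ₗ A w x ∘ₗ i ∘ₗ z)
    (hAJ : ∀ w, ∀ x ∈ L0, A (νj w) (J x) = j ∘ₗ A w x ∘ₗ j ∘ₗ z)
    (B : L → W →ₗ[K] W) (lam : Fin 8 → L → K) (hAB : ∀ w, ∀ x ∈ L0, A w x = B x + lam w x • LinearMap.id)
    (hlam : ∀ w, ∀ x ∈ L0, lam (νi.symm (νi.symm w)) x = lam w x)
    (w0 : Fin 8) {x : L} (hx : x ∈ L0) : A w0 (TrL I J x) = trQ i j z (B x) := by
  have h2 : (2 : K) = 0 := CharTwo.two_eq_zero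
  have zi : ∀ v, z (i v) = i (z v) := fun v => by rw [← h.ii, ← h.ii]
  have zj : ∀ v, z (j v) = j (z v) := fun v => by rw [← h.jj, ← h.jj]
  have hI2 : ∀ x ∈ L0, I (I x) ∈ L0 := fun x hx => hI0 _ (hI0 _ hx)
  have aI : ∀ w, ∀ x ∈ L0, ∀ v, A w (I x) v = i (A (νi.symm w) x (i (z v))) := fun w x hx v => by
    have h3 := hAI (νi.symm w) x hx
    rw [Equiv.apply_symm_apply] at h3
    rw [h3]
    rfl
  have aJ : ∀ w, ∀ x ∈ L0, ∀ v, A w (J x) v = j (A (νj.symm w) x (j (z v))) := fun w x hx v => by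
    have h3 := hAJ (νj.symm w) x hx
    rw [Equiv.apply_symm_apply] at h3
    rw [h3]
    rfl
  have aZ : ∀ w, ∀ x ∈ L0, ∀ v, A w (I (I x)) v = z (A (νi.symm (νi.symm w)) x (z v)) := fun w x hx v => by
    rw [aI w _ (hI0 x hx), aI _ x hx, h.ii, zi (z v), h.zz, h.ii]
  have hB : ∀ w, ∀ x ∈ L0, ∀ v, A w x v = B x v + lam w x • v := fun w x hx v => by
    rw [hAB w x hx]
    rfl
  have m1 := hI0 _ hx
  have m2 := hI2 _ hx
  have m3 := hI0 _ m2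
  have m4 := hJ0 _ hx
  have m5 := hJ0 _ m2
  have m6 := hI0 _ m4
  have m7 := hI0 _ m5
  have m8 := hI0 _ m3
  ext v
  unfold TrL
  rw [hadd w0 _ (L0.add_mem (L0.add_mem (L0.add_mem hx m2) (L0.add_mem m1 m3)) (L0.add_mem m4 m5)) _
      (L0.add_mem m6 m7),
    hadd w0 _ (L0.add_mem (L0.add_mem hx m2) (L0.add_mem m1 m3)) _ (L0.add_mem m4 m5),
    hadd w0 _ (L0.add_mem hx m2) _ (L0.add_mem m1 m3),
    hadd w0 _ hx _ m2, hadd w0 _ m1 _ m3, hadd w0 _ m4 _ m5, hadd w0 _ m6 _ m7]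
  simp only [LinearMap.add_apply]
  rw [aI w0 _ m2, aJ w0 _ m2, aI w0 _ m4, aI w0 _ m5, aJ (νi.symm w0) _ hx, aJ (νi.symm w0) _ m2, aZ w0 _ hx,
    aZ (νi.symm w0) _ hx, aZ (νj.symm w0) _ hx, aZ (νj.symm (νi.symm w0)) _ hx, aI w0 _ hx, aJ w0 _ hx]
  rw [hB w0 _ hx, hB (νi.symm w0) _ hx, hB (νj.symm w0) _ hx, hB (νj.symm (νi.symm w0)) _ hx,
    hB (νi.symm (νi.symm w0)) _ hx, hB (νi.symm (νi.symm (νi.symm w0))) _ hx, hB (νi.symm (νi.symm (νj.symm w0))) _ hx,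
    hB (νi.symm (νi.symm (νj.symm (νi.symm w0)))) _ hx]
  rw [hlam w0 _ hx, hlam (νi.symm w0) _ hx, hlam (νj.symm w0) _ hx, hlam (νj.symm (νi.symm w0)) _ hx]
  unfold trQ
  simp only [LinearMap.add_apply, LinearMap.comp_apply, map_add, map_smul, zi, zj, h.zz, h.ii, h.jj, h.ji]
  linear_combination (norm := module) h2 • ((lam w0 x + lam (νi.symm w0) x + lam (νj.symm w0) x +
    lam (νj.symm (νi.symm w0)) x) • v)

end Cfsg.Agent.H544.L34
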